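import Cfsg.Agent.BS.Hup
import Cfsg.Agent.BS.A1b

/-!
Bender–Suzuki project: a variant of `huppert_inv` with a weaker hypothesis on the fixed points.
-/

set_option autoImplicit false

namespace CfsgBS

open Subgroup
open scoped commutatorElement

variable {Γ E : Type*} [Group Γ] [Finite Γ] [AddCommGroup E] [Finite E]

/-- The elements inverted by `τ` form a cyclic normal subgroup. -/
theorem huppert_inv' [Nontrivial E] (hodd : Odd (Nat.card Γ)) (ρ : Γ →* AddMonoid.End E)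
    (hρ : Function.Injective ρ) (τ : Γ →* Γ) (hτ : ∀ x, τ (τ x) = x)
    (htr : ∀ e f : E, e ≠ 0 → f ≠ 0 → ∃ g, ρ g e = f)
    (h1 : ∀ x, τ x = x⁻¹ → ∀ e : E, e ≠ 0 → ρ x e = e → x = 1)
    (h2 : ∀ x, τ x = x → (orderOf x).Prime → ∃ s : E, s ≠ 0 ∧ ρ x s = s) :
    ∃ A : Subgroup Γ, IsCyclic A ∧ ∀ x, x ∈ A ↔ τ x = x⁻¹ := by
  obtain ⟨m, hm⟩ := sq_root_of_odd hodd
  have sq1 : ∀ x : Γ, x * x = 1 → x = 1 := fun x hx => by rw [← hm x, hx, one_pow]
  let P : Subgroup Γ → Prop := fun A =>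
    A.Normal ∧ (∀ a ∈ A, ∀ b ∈ A, a * b = b * a) ∧ ∀ a ∈ A, τ a ∈ A
  have hP : ∀ A, P A → ∀ a ∈ A, τ a = a⁻¹ := by
    rintro A ⟨hn, hc, ht⟩ a ha
    have hm : a * τ a ∈ A := A.mul_mem ha (ht a ha)
    have h5 : a * τ a = 1 := by
      by_contra h6
      obtain ⟨n, hn'⟩ := exists_pow_prime h6
      obtain ⟨s, hs, h3⟩ := h2 _ (by rw [map_pow, map_mul, hτ, hc _ (ht a ha) _ ha]) hn'
      have h4 : ρ ((a * τ a) ^ n) - 1 = 0 := by
        refine eq_zero_of_trans ρ A (fun a ha b hb => by rw [← map_mul, hc a ha b hb, map_mul]) htr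
          (Subring.sub_mem _ (Subring.subset_closure ⟨_, A.pow_mem hm n, rfl⟩)
            (Subring.one_mem _)) hs ?_
        rw [end_sub_one, h3]; exact sub_self s
      rw [hρ ((sub_eq_zero.1 h4).trans (map_one ρ).symm), orderOf_one] at hn'
      exact Nat.not_prime_one hn'
    exact eq_inv_of_mul_eq_one_right h5
  have cyc : ∀ B : Subgroup Γ, (∀ b ∈ B, τ b = b⁻¹) → IsCyclic B := by
    intro B hB
    refine isCyclic_of_fpf (ρ.comp B.subtype) (fun a b => Subtype.ext ?_)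
      fun a e he h => Subtype.ext (h1 a (hB a a.2) e he h)
    have := hB _ (B.mul_mem a.2 b.2)
    rw [map_mul, hB a a.2, hB b b.2, ← mul_inv_rev, inv_inj] at this
    exact this.symm
  obtain ⟨A, hA, hmax⟩ := Set.Finite.exists_maximal (s := {A | P A}) (Set.toFinite _)
    ⟨⊥, inferInstance, by simp, by simp⟩
  have hAi := hP A hA
  obtain ⟨hAn, hAc, hAt⟩ := hA
  refine ⟨A, cyc A hAi, fun x => ⟨hAi x, fun hx => ?_⟩⟩
  -- inverted elements centralise `A`
  have hxC : x ∈ centralizer (A : Set Γ) := by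
    intro a ha
    have h3 := hAi _ (hAn.conj_mem a ha x)
    rw [map_mul, map_mul, map_inv, hx, hAi a ha] at h3
    have h4 : Commute (x * x) a := by
      show x * x * a = a * (x * x)
      have h5 : x⁻¹ * a * x = x * a * x⁻¹ := by
        have := congrArg (·⁻¹) h3
        simpa [mul_assoc] using this
      calc x * x * a = x * (x * a * x⁻¹) * x := by group
        _ = _ := by rw [← h5]; group
    have := h4.pow_left m
    rw [hm] at this
    exact this.symm
  suffices hC : centralizer (A : Set Γ) ≤ A from hC hxC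
  by_contra hC
  have hAC : A ≤ centralizer (A : Set Γ) := fun a ha b hb => hAc b hb a ha
  let P2 : Subgroup Γ → Prop := fun B =>
    B.Normal ∧ (∀ a ∈ B, τ a ∈ B) ∧ A < B ∧ B ≤ centralizer (A : Set Γ)
  obtain ⟨B, ⟨hBn, hBt, hAB, hBC⟩, hmin⟩ := Set.Finite.exists_minimal (s := {B | P2 B})
    (Set.toFinite _) ⟨centralizer (A : Set Γ), inferInstance, fun c hc a ha => by
      have := congrArg τ (hc _ (hAt a ha))
      rwa [map_mul, map_mul, hτ] at this, lt_of_le_not_ge hAC hC, le_rfl⟩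
  have hmin' : ∀ B' : Subgroup Γ, B'.Normal → (∀ a ∈ B', τ a ∈ B') → A ≤ B' → B' ≤ B →
      B' ≤ A ∨ B ≤ B' := by
    intro B' h1 h2 h3 h4
    by_cases h : B' ≤ A
    · exact Or.inl h
    · exact Or.inr (hmin ⟨h1, h2, lt_of_le_not_ge h3 h, h4.trans hBC⟩ h4)
  have tsup : ∀ U : Subgroup Γ, U.Normal → (∀ a ∈ U, τ a ∈ U) → ∀ a ∈ U ⊔ A, τ a ∈ U ⊔ A := by
    intro U hU hUt a ha
    have : a ∈ ((U ⊔ A : Subgroup Γ) : Set Γ) := ha
    rw [Subgroup.mul_normal] at this
    obtain ⟨u, hu, b, hb, rfl⟩ := this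
    rw [map_mul]
    exact Subgroup.mul_mem_sup (hUt u hu) (hAt b hb)
  -- commutators of `B` lie in `A`
  have hcomm : ∀ x ∈ B, ∀ y ∈ B, ⁅x, y⁆ ∈ A := by
    have hBB : ∀ a ∈ ⁅B, B⁆, τ a ∈ ⁅B, B⁆ := by
      intro a ha
      have : ⁅B, B⁆.map τ ≤ ⁅B, B⁆ := by
        rw [map_commutator]
        have : B.map τ ≤ B := by rintro _ ⟨b, hb, rfl⟩; exact hBt b hb
        exact commutator_mono this this
      exact this (mem_map_of_mem τ ha)
    rcases hmin' (⁅B, B⁆ ⊔ A) inferInstance (tsup _ inferInstance hBB) le_sup_right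
      (sup_le (commutator_le_left B B) hAB.le) with h | h
    · exact fun x hx y hy => h (le_sup_left (a := ⁅B, B⁆) (commutator_mem_commutator hx hy))
    · exfalso
      haveI := CfsgL0.odd_solvable hodd
      have hne : B.map (QuotientGroup.mk' A) ≠ ⊥ := by
        rw [Ne, Subgroup.map_eq_bot_iff, QuotientGroup.ker_mk']
        exact hAB.not_ge
      have hlt := Group.IsSolvable.commutator_lt_of_ne_bot hne
      refine hlt.not_ge ?_
      rw [← map_commutator]
      refine (map_mono h).trans ?_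
      rw [Subgroup.map_sup, (Subgroup.map_eq_bot_iff A).2 (QuotientGroup.ker_mk' A).ge, sup_bot_eq]
  have hcen : ∀ a ∈ A, ∀ y ∈ B, Commute a y := fun a ha y hy => hBC hy a ha
  have mulc : ∀ x y : Γ, x * y = ⁅x, y⁆ * (y * x) := fun x y => by
    rw [commutatorElement_def]; group
  -- power formula
  have comm_pow : ∀ x ∈ B, ∀ y ∈ B, ∀ n : ℕ, ⁅x ^ n, y⁆ = ⁅x, y⁆ ^ n := by
    intro x hx y hy n
    induction n with
    | zero => simp
    | succ n ih =>
      have h3 := (hcen _ (hcomm x hx y hy) _ (B.pow_mem hx n)).eq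
      calc ⁅x ^ (n + 1), y⁆ = x ^ n * ⁅x, y⁆ * (x ^ n)⁻¹ * ⁅x ^ n, y⁆ := by
            simp only [commutatorElement_def]; group
        _ = _ := by rw [← h3, ih]; group
  have mul_pow2 : ∀ x ∈ B, ∀ y ∈ B, ∀ n : ℕ,
      (x * y) ^ n = ⁅y, x⁆ ^ (n.choose 2) * (x ^ n * y ^ n) := by
    intro x hx y hy n
    induction n with
    | zero => simp
    | succ n ih =>
      have h3 := (hcen _ (A.pow_mem (hcomm y hy x hx) n) _ (B.pow_mem hx n)).eq
      rw [pow_succ, ih, Nat.choose_succ_succ' n 1, Nat.choose_one_right, add_comm n, pow_add]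
      calc _ = ⁅y, x⁆ ^ n.choose 2 * x ^ n * (y ^ n * x) * y := by group
        _ = ⁅y, x⁆ ^ n.choose 2 * (x ^ n * ⁅y, x⁆ ^ n) * (x * y ^ n) * y := by
          rw [mulc (y ^ n) x, comm_pow y hy x hx]; group
        _ = _ := by rw [← h3]; group
  -- `B / A` has prime exponent
  obtain ⟨p, hp, hpo, hpow⟩ : ∃ p : ℕ, p.Prime ∧ Odd p ∧ ∀ x ∈ B, x ^ p ∈ A := by
    obtain ⟨b, hb, hbA⟩ := SetLike.exists_of_lt hAB
    have hb1 : orderOf (QuotientGroup.mk' A b) ≠ 1 := by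
      rw [Ne, orderOf_eq_one_iff]; exact fun h => hbA ((QuotientGroup.eq_one_iff b).1 h)
    obtain ⟨p, hp, k, hk⟩ := Nat.exists_prime_and_dvd hb1
    have hpo : Odd p := hodd.of_dvd_nat ((Dvd.intro _ hk.symm).trans
      ((orderOf_map_dvd _ _).trans (orderOf_dvd_natCard b)))
    let U : Subgroup Γ :=
      { carrier := {x | x ∈ B ∧ x ^ p ∈ A}
        mul_mem' := fun {x y} hx hy => ⟨B.mul_mem hx.1 hy.1, by
          rw [mul_pow2 x hx.1 y hy.1]
          exact A.mul_mem (A.pow_mem (hcomm y hy.1 x hx.1) _) (A.mul_mem hx.2 hy.2)⟩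
        one_mem' := ⟨B.one_mem, by simp⟩
        inv_mem' := fun {x} hx => ⟨B.inv_mem hx.1, by rw [inv_pow]; exact A.inv_mem hx.2⟩ }
    rcases hmin' U ⟨fun x hx g => ⟨hBn.conj_mem x hx.1 g, by
        rw [conj_pow]; exact hAn.conj_mem _ hx.2 g⟩⟩
      (fun x hx => ⟨hBt x hx.1, by rw [← map_pow]; exact hAt _ hx.2⟩)
      (fun a ha => ⟨hAB.le ha, A.pow_mem ha p⟩) (fun x hx => hx.1) with h | h
    · exfalso
      have h3 : b ^ k ∈ U := ⟨B.pow_mem hb k, by
        rw [← pow_mul, ← QuotientGroup.eq_one_iff, mul_comm, ← hk]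
        exact (map_pow (QuotientGroup.mk' A) b _).trans (pow_orderOf_eq_one _)⟩
      have h4 : (QuotientGroup.mk' A b) ^ k = 1 := by
        rw [← map_pow]; exact (QuotientGroup.eq_one_iff _).2 (h h3)
      have h5 := orderOf_dvd_of_pow_eq_one h4
      have hpos := orderOf_pos (QuotientGroup.mk' A b)
      have hk0 : 0 < k := Nat.pos_of_ne_zero (by rintro rfl; rw [mul_zero] at hk; omega)
      have := Nat.le_of_dvd hk0 h5
      rw [hk] at this
      nlinarith [hp.two_le]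
    · exact ⟨p, hp, hpo, fun x hx => (h hx).2⟩
  have hcp : ∀ x ∈ B, ∀ y ∈ B, ⁅x, y⁆ ^ p = 1 := fun x hx y hy => by
    rw [← comm_pow x hx y hy, commutatorElement_eq_one_iff_commute]
    exact hcen _ (hpow x hx) y hy
  have hmulp : ∀ x ∈ B, ∀ y ∈ B, (x * y) ^ p = x ^ p * y ^ p := fun x hx y hy => by
    obtain ⟨j, hj⟩ : p ∣ p.choose 2 := by
      obtain ⟨k, hk⟩ := hpo
      have := hp.two_le
      exact hp.dvd_choose_self (by norm_num) (by omega)
    rw [mul_pow2 x hx y hy, hj, pow_mul, hcp y hy x hx, one_pow, one_mul]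
  -- `B` is not abelian
  obtain ⟨x0, hx0, y0, hy0, hz⟩ : ∃ x ∈ B, ∃ y ∈ B, ⁅x, y⁆ ≠ 1 := by
    by_contra h
    push Not at h
    exact hAB.not_ge (hmax ⟨hBn, fun a ha b hb =>
      commutatorElement_eq_one_iff_mul_comm.1 (h a ha b hb), hBt⟩ hAB.le)
  haveI := Fact.mk hp
  let C : Subgroup Γ :=
    { carrier := {x | x ∈ B ∧ x ^ p = 1}
      mul_mem' := fun {x y} hx hy => ⟨B.mul_mem hx.1 hy.1, by
        rw [hmulp x hx.1 y hy.1, hx.2, hy.2, one_mul]⟩
      one_mem' := ⟨B.one_mem, by simp⟩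
      inv_mem' := fun {x} hx => ⟨B.inv_mem hx.1, by rw [inv_pow, hx.2, inv_one]⟩ }
  have hCn : C.Normal := ⟨fun x hx g => ⟨hBn.conj_mem x hx.1 g, by
    rw [conj_pow, hx.2]; group⟩⟩
  have hCt : ∀ x ∈ C, τ x ∈ C := fun x hx => ⟨hBt x hx.1, by rw [← map_pow, hx.2, map_one]⟩
  have hCinv : ∀ x ∈ C, τ x = x⁻¹ → x ∈ A := by
    intro x hx hxi
    set z := ⁅x0, y0⁆ with hzd
    have hzA : z ∈ A := hcomm x0 hx0 y0 hy0
    let U : Subgroup Γ :=
      { carrier := {y | y ∈ C ∧ ∃ n : ℕ, ∃ a ∈ A, y = x ^ n * a}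
        mul_mem' := by
          rintro _ _ ⟨hy, n, a, ha, rfl⟩ ⟨hy', n', a', ha', rfl⟩
          refine ⟨C.mul_mem hy hy', n + n', a * a', A.mul_mem ha ha', ?_⟩
          have := (hcen a ha _ (B.pow_mem hx.1 n')).eq
          calc _ = x ^ n * (a * x ^ n') * a' := by group
            _ = _ := by rw [this]; group
        one_mem' := ⟨C.one_mem, 0, 1, A.one_mem, by simp⟩
        inv_mem' := by
          rintro _ ⟨hy, n, a, ha, rfl⟩
          refine ⟨C.inv_mem hy, (p - 1) * n, a⁻¹, A.inv_mem ha, ?_⟩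
          have h3 : (x ^ n)⁻¹ = x ^ ((p - 1) * n) := by
            refine inv_eq_of_mul_eq_one_right ?_
            rw [← pow_add, show n + (p - 1) * n = p * n by
              obtain ⟨k, rfl⟩ := Nat.exists_eq_add_of_le' hp.one_le; simp; ring, pow_mul, hx.2,
              one_pow]
          rw [mul_inv_rev, h3, (hcen _ (A.inv_mem ha) _ (B.pow_mem hx.1 _)).eq] }
    have hU : IsCyclic U := cyc U (by
      rintro _ ⟨-, n, a, ha, rfl⟩
      rw [map_mul, map_pow, hxi, hAi a ha, mul_inv_rev, inv_pow,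
        (hcen _ (A.inv_mem ha) _ (B.inv_mem (B.pow_mem hx.1 n))).eq])
    have hzU : z ∈ U := ⟨⟨hAB.le hzA, hcp x0 hx0 y0 hy0⟩, 0, z, hzA, by simp⟩
    have hxU : x ∈ U := ⟨hx, 1, 1, A.one_mem, by simp⟩
    have hcard : Nat.card U ≤ p := by
      obtain ⟨g, hg⟩ := hU.exists_generator
      rw [← orderOf_eq_card_of_forall_mem_zpowers hg]
      exact Nat.le_of_dvd hp.pos (orderOf_dvd_of_pow_eq_one (Subtype.ext g.2.1.2))
    have hzo : orderOf z = p := orderOf_eq_prime (hcp x0 hx0 y0 hy0) hz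
    have heq : zpowers z = U := Subgroup.eq_of_le_of_card_ge (zpowers_le.2 hzU)
      (by rw [Nat.card_zpowers, hzo]; exact hcard)
    exact (zpowers_le.2 hzA) (heq ▸ hxU)
  have hCdec : ∀ x ∈ C, ∃ y ∈ C, ∃ a ∈ A, τ y = y ∧ x = y * a := by
    intro x hx
    set w := (τ x)⁻¹ * x with hw
    have hwC : w ∈ C := C.mul_mem (C.inv_mem (hCt x hx)) hx
    have hwi : τ w = w⁻¹ := by rw [hw, map_mul, map_inv, hτ]; group
    have hwA := hCinv w hwC hwi
    have hz2 : w ^ m * w ^ m = w := by rw [← Commute.mul_pow rfl, hm]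
    refine ⟨x * (w ^ m)⁻¹, C.mul_mem hx (C.inv_mem (C.pow_mem hwC m)), w ^ m, A.pow_mem hwA m, ?_,
      by group⟩
    rw [map_mul, map_inv, map_pow, hwi, inv_pow, inv_inv]
    calc τ x * w ^ m = x * (w ^ m * w ^ m)⁻¹ * w ^ m := by rw [hz2, hw]; group
      _ = _ := by group
  have hCA : C ≤ A := by
    have hcc : ∀ x ∈ C, ∀ y ∈ C, x * y = y * x := by
      intro x hx y hy
      obtain ⟨x', hx', a, ha, hxt, rfl⟩ := hCdec x hx
      obtain ⟨y', hy', b, hb, hyt, rfl⟩ := hCdec y hy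
      have h3 : ⁅x', y'⁆ = 1 := by
        have h4 := hAi _ (hcomm x' hx'.1 y' hy'.1)
        rw [map_commutatorElement, hxt, hyt] at h4
        exact sq1 _ (by nth_rewrite 2 [h4]; exact mul_inv_cancel _)
      have h5 := commutatorElement_eq_one_iff_commute.1 h3
      exact ((h5.mul_right (hcen b hb x' hx'.1).symm).mul_left
        ((hcen a ha y' hy'.1).mul_right (hAc a ha b hb))).eq
    refine le_sup_left.trans (hmax (y := C ⊔ A) ⟨inferInstance, ?_, tsup C hCn hCt⟩ le_sup_right)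
    intro x hx y hy
    have hx' : x ∈ ((C ⊔ A : Subgroup Γ) : Set Γ) := hx
    have hy' : y ∈ ((C ⊔ A : Subgroup Γ) : Set Γ) := hy
    rw [Subgroup.mul_normal] at hx' hy'
    obtain ⟨u, hu, a, ha, rfl⟩ := hx'
    obtain ⟨v, hv, b, hb, rfl⟩ := hy'
    exact ((Commute.mul_right (hcc u hu v hv) (hcen b hb u hu.1).symm).mul_left
      ((hcen a ha v hv.1).mul_right (hAc a ha b hb))).eq
  haveI := cyc A hAi
  let f : B →* A :=
    { toFun := fun x => ⟨(x : Γ) ^ p, hpow x x.2⟩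
      map_one' := by simp
      map_mul' := fun x y => Subtype.ext (hmulp x x.2 y y.2) }
  have := f.isMulCommutative_of_isCyclic_of_ker_le_center (fun x hx => by
    rw [mem_center_iff]
    intro y
    exact Subtype.ext (hcen _ (hCA ⟨x.2, congrArg Subtype.val hx⟩) y y.2).symm.eq)
  exact hz (commutatorElement_eq_one_iff_mul_comm.2
    (congrArg Subtype.val (this.is_comm.comm (⟨x0, hx0⟩ : B) ⟨y0, hy0⟩)))

end CfsgBS
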